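import Cfsg.Agent.Base

/-!
# A finite special Jordan division ring is commutative

If a subspace `S` of a matrix algebra over a finite field contains `1`, is closed under
`(a, b) ↦ a b a`, and all its nonzero elements are invertible, then it is commutative
(McCrimmon's argument: generic minimum polynomial and the Chevalley–Warning theorem).
-/

set_option autoImplicit false

namespace CL.TI

open Polynomial

section Generic

variable {k : Type*} [Field k] {n : Type*} [Fintype n] [DecidableEq n] {d : ℕ}

/-- The generic linear combination of the matrices `e i`. -/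
noncomputable def genMat (e : Fin d → Matrix n n k) : Matrix n n (MvPolynomial (Fin d) k) :=
  Matrix.of fun a b => ∑ i, MvPolynomial.C (e i a b) * MvPolynomial.X i

omit [Fintype n] [DecidableEq n] in
theorem genMat_map_eval (e : Fin d → Matrix n n k) (c : Fin d → k) :
    (genMat e).map (MvPolynomial.eval c) = ∑ i, c i • e i := by
  ext a b
  simp [genMat, Matrix.sum_apply, mul_comm]

theorem genMat_isHomogeneous (e : Fin d → Matrix n n k) :
    ((MvPolynomial.optionEquivLeft k (Fin d)).symm (genMat e).charpoly).IsHomogeneous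
      (Fintype.card n) := by
  have aux : Fintype.card n = 0 + ∑ i : n, 1 := by
    simp only [zero_add, Finset.sum_const, smul_eq_mul, mul_one, Fintype.card]
  have hent : ∀ a b : n, ((MvPolynomial.optionEquivLeft k (Fin d)).symm
      (Polynomial.C (genMat e a b))).IsHomogeneous 1 := by
    intro a b
    simp only [genMat, Matrix.of_apply, map_sum, map_mul,
      MvPolynomial.optionEquivLeft_symm_C_C, MvPolynomial.optionEquivLeft_symm_C_X]
    refine MvPolynomial.IsHomogeneous.sum _ _ _ fun i _ => ?_
    simpa using (MvPolynomial.isHomogeneous_C _ (e i a b)).mul (MvPolynomial.isHomogeneous_X k _)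
  rw [aux, Matrix.charpoly, Matrix.det_apply', map_sum]
  refine MvPolynomial.IsHomogeneous.sum _ _ _ fun σ _ => ?_
  rw [map_mul, map_intCast, map_prod]
  refine MvPolynomial.IsHomogeneous.mul (MvPolynomial.isHomogeneous_C _ _) ?_
  refine MvPolynomial.IsHomogeneous.prod _ _ _ fun j _ => ?_
  by_cases h : σ j = j
  · rw [h, Matrix.charmatrix_apply_eq, map_sub, MvPolynomial.optionEquivLeft_symm_X]
    exact (MvPolynomial.isHomogeneous_X _ _).sub (hent j j)
  · rw [Matrix.charmatrix_apply_ne _ _ _ h, map_neg]
    exact (hent _ _).neg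

/-- A monic factor of the generic characteristic polynomial has constant term of total degree
at most its degree. -/
theorem totalDegree_coeff_zero_le (e : Fin d → Matrix n n k)
    {m h : (MvPolynomial (Fin d) k)[X]} (hm : m.Monic) (hh : h.Monic)
    (hmh : (genMat e).charpoly = m * h) : (m.coeff 0).totalDegree ≤ m.natDegree := by
  set E := MvPolynomial.optionEquivLeft k (Fin d)
  have h1 : (E.symm (genMat e).charpoly).totalDegree ≤ Fintype.card n :=
    (genMat_isHomogeneous e).totalDegree_le
  have hm0 : E.symm m ≠ 0 := by simpa using hm.ne_zero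
  have hh0 : E.symm h ≠ 0 := by simpa using hh.ne_zero
  rw [hmh, map_mul, MvPolynomial.totalDegree_mul_of_isDomain hm0 hh0] at h1
  have h2 : h.natDegree ≤ (E.symm h).totalDegree := by
    have := MvPolynomial.natDegree_optionEquivLeft k (E.symm h)
    rw [AlgEquiv.apply_symm_apply] at this
    rw [this]
    exact MvPolynomial.degreeOf_le_totalDegree _ _
  have h3 : m.natDegree + h.natDegree = Fintype.card n := by
    rw [← hm.natDegree_mul hh, ← hmh, Matrix.charpoly_natDegree_eq_dim]
  have h4 := MvPolynomial.totalDegree_coeff_optionEquivLeft_le k (Fin d) (E.symm m) 0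
  rw [AlgEquiv.apply_symm_apply] at h4
  omega

end Generic

/-- McCrimmon's theorem for matrix algebras over a finite field. -/
theorem comm_of_jordan {k : Type*} [Field k] [Finite k] {n : Type*} [Fintype n] [DecidableEq n]
    (S : Submodule k (Matrix n n k)) (h1 : (1 : Matrix n n k) ∈ S)
    (hU : ∀ a ∈ S, ∀ b ∈ S, a * b * a ∈ S) (hinv : ∀ a ∈ S, a ≠ 0 → a.det ≠ 0) :
    ∀ a ∈ S, ∀ b ∈ S, a * b = b * a := by
  classical
  rcases isEmpty_or_nonempty n with hn | hn
  · intro a _ b _; exact Subsingleton.elim _ _
  have := Fintype.ofFinite k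
  set d := Module.finrank k S with hd
  let bS : Module.Basis (Fin d) k S := Module.finBasis k S
  let e : Fin d → Matrix n n k := fun i => (bS i : Matrix n n k)
  let R := MvPolynomial (Fin d) k
  let K := FractionRing R
  let ι : Matrix n n k →ₐ[k] Matrix n n K := (Algebra.ofId k K).mapMatrix
  have hι : Function.Injective ι := by
    intro a b hab
    ext i j
    have := congrFun (congrFun hab i) j
    exact (algebraMap k K).injective this
  let X : Matrix n n K := (genMat e).map (algebraMap R K)
  let T : Submodule K (Matrix n n K) := Submodule.span K (Set.range fun i => ι (e i))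
  have hsT : ∀ s ∈ S, ι s ∈ T := by
    intro s hs
    have : s = ∑ i, (bS.repr ⟨s, hs⟩ i) • e i := by
      have := congrArg S.subtype (bS.sum_repr ⟨s, hs⟩)
      rw [map_sum] at this
      exact this.symm
    rw [this, map_sum]
    refine T.sum_mem fun i _ => ?_
    rw [map_smul, ← algebraMap_smul K]
    exact T.smul_mem _ (Submodule.subset_span ⟨i, rfl⟩)
  have hX : X = ∑ i, (algebraMap R K (MvPolynomial.X i)) • ι (e i) := by
    ext a b
    simp only [X, genMat, Matrix.map_apply, Matrix.of_apply, map_sum, map_mul, Matrix.sum_apply,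
      Matrix.smul_apply, smul_eq_mul, ι, AlgHom.mapMatrix_apply, Algebra.ofId_apply]
    refine Finset.sum_congr rfl fun i _ => ?_
    rw [mul_comm, IsScalarTower.algebraMap_apply k R K]
    rfl
  have hXT : X ∈ T := by
    rw [hX]
    exact T.sum_mem fun i _ => T.smul_mem _ (Submodule.subset_span ⟨i, rfl⟩)
  have hlin : ∀ a ∈ S, ∀ b ∈ S, ∀ y ∈ S, a * y * b + b * y * a ∈ S := by
    intro a ha b hb y hy
    have := S.sub_mem (S.sub_mem (hU _ (S.add_mem ha hb) y hy) (hU a ha y hy)) (hU b hb y hy)
    convert this using 1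
    noncomm_ring
  -- `T` is closed under the quadratic operators
  have hTlin : ∀ a ∈ T, ∀ b ∈ T, ∀ y ∈ T, a * y * b + b * y * a ∈ T := by
    intro a ha b hb y hy
    induction ha using Submodule.span_induction with
    | zero => simp
    | add a a' _ _ h h' => convert T.add_mem h h' using 1; noncomm_ring
    | smul c a _ h => convert T.smul_mem c h using 1; simp [smul_add]
    | mem a ha =>
      obtain ⟨i, rfl⟩ := ha
      induction hb using Submodule.span_induction with
      | zero => simp
      | add b b' _ _ h h' => convert T.add_mem h h' using 1; noncomm_ring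
      | smul c b _ h => convert T.smul_mem c h using 1; simp [smul_add]
      | mem b hb =>
        obtain ⟨j, rfl⟩ := hb
        induction hy using Submodule.span_induction with
        | zero => simp
        | add y y' _ _ h h' => convert T.add_mem h h' using 1; noncomm_ring
        | smul c y _ h => convert T.smul_mem c h using 1; simp [smul_add]
        | mem y hy =>
          obtain ⟨l, rfl⟩ := hy
          have := hsT _ (hlin _ (bS i).2 _ (bS j).2 _ (bS l).2)
          simpa [e] using this
  have hTU : ∀ a ∈ T, ∀ y ∈ T, a * y * a ∈ T := by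
    intro a ha y hy
    induction ha using Submodule.span_induction with
    | zero => simp
    | add a a' ha ha' h h' =>
      convert T.add_mem (T.add_mem h h') (hTlin a ha a' ha' y hy) using 1; noncomm_ring
    | smul c a _ h => convert T.smul_mem (c * c) h using 1; simp [mul_smul]
    | mem a ha =>
      obtain ⟨i, rfl⟩ := ha
      induction hy using Submodule.span_induction with
      | zero => simp
      | add y y' _ _ h h' => convert T.add_mem h h' using 1; noncomm_ring
      | smul c y _ h => convert T.smul_mem c h using 1; simp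
      | mem y hy =>
        obtain ⟨l, rfl⟩ := hy
        have := hsT _ (hU _ (bS i).2 _ (bS l).2)
        simpa [e] using this
  have hpow : ∀ j : ℕ, X ^ j ∈ T ∧ X ^ (j + 1) ∈ T := by
    intro j
    induction j with
    | zero => exact ⟨by simpa using hsT 1 h1, by simpa using hXT⟩
    | succ j ih =>
      refine ⟨ih.2, ?_⟩
      convert hTU X hXT _ ih.1 using 1
      rw [pow_succ, pow_succ']
  -- the minimum polynomial
  have hint : IsIntegral K X := Algebra.IsIntegral.isIntegral X
  have hdvd : minpoly K X ∣ (genMat e).charpoly.map (algebraMap R K) := by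
    rw [← Matrix.charpoly_map]
    exact minpoly.dvd K X (Matrix.aeval_self_charpoly X)
  obtain ⟨m, hm⟩ := IsIntegrallyClosed.eq_map_mul_C_of_dvd K (genMat e).charpoly_monic hdvd
  rw [(minpoly.monic hint).leadingCoeff, C_1, mul_one] at hm
  have hinj : Function.Injective (algebraMap R K) := IsFractionRing.injective R K
  have hmm : m.Monic := monic_of_injective hinj (hm ▸ minpoly.monic hint)
  have hdeg : m.natDegree = (minpoly K X).natDegree := by
    rw [← hm, natDegree_map_eq_of_injective hinj]
  rw [← hm, map_dvd_map _ hinj hmm] at hdvd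
  obtain ⟨h, hmh⟩ := hdvd
  have hh : h.Monic := hmm.of_mul_monic_left (hmh ▸ (genMat e).charpoly_monic)
  have htot := totalDegree_coeff_zero_le e hmm hh hmh
  have hr : 0 < m.natDegree := hdeg ▸ minpoly.natDegree_pos hint
  have hev : ∀ c : Fin d → k, (∑ i, c i • e i).charpoly =
      m.map (MvPolynomial.eval c) * h.map (MvPolynomial.eval c) := by
    intro c
    rw [← genMat_map_eval, Matrix.charpoly_map, hmh, Polynomial.map_mul]
  have hzero : ∀ c : Fin d → k, MvPolynomial.eval c (m.coeff 0) = 0 ↔ c = 0 := by
    intro c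
    constructor
    · intro hc
      by_contra hc0
      have hne : (∑ i, c i • e i) ≠ 0 := by
        intro h0
        apply hc0
        have hli := bS.linearIndependent
        rw [Fintype.linearIndependent_iff] at hli
        funext i
        refine hli c (Subtype.ext ?_) i
        simpa [e] using h0
      have hmem : (∑ i, c i • e i) ∈ S := S.sum_mem fun i _ => S.smul_mem _ (bS i).2
      apply hinv _ hmem hne
      rw [Matrix.det_eq_sign_charpoly_coeff, hev c, mul_coeff_zero, coeff_map, hc]
      simp
    · rintro rfl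
      have h0 := hev 0
      simp only [Pi.zero_apply, zero_smul, Finset.sum_const_zero, Matrix.charpoly_zero] at h0
      have hdv : m.map (MvPolynomial.eval (0 : Fin d → k)) ∣ Polynomial.X ^ Fintype.card n :=
        ⟨_, h0⟩
      obtain ⟨i, -, hi⟩ := (dvd_prime_pow Polynomial.prime_X _).1 hdv
      have hi' := eq_of_monic_of_associated (hmm.map (MvPolynomial.eval (0 : Fin d → k)))
        (monic_X_pow i) hi
      have hi0 : i ≠ 0 := by
        have := congrArg natDegree hi'
        rw [hmm.natDegree_map, natDegree_X_pow] at this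
        omega
      rw [← coeff_map, hi', coeff_X_pow, if_neg hi0.symm]
  have hle : d ≤ m.natDegree := by
    by_contra hlt
    obtain ⟨p, hp⟩ := CharP.exists k
    have hpp : p.Prime := CharP.char_is_prime k p
    have hcw := char_dvd_card_solutions (K := k) p (f := m.coeff 0)
      (by rw [Fintype.card_fin]; omega)
    have hc : Fintype.card { x : Fin d → k // MvPolynomial.eval x (m.coeff 0) = 0 } = 1 := by
      rw [Fintype.card_eq_one_iff]
      exact ⟨⟨0, (hzero 0).2 rfl⟩, fun y => Subtype.ext ((hzero _).1 y.2)⟩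
    rw [hc] at hcw
    exact hpp.one_lt.ne' (Nat.dvd_one.1 hcw)
  let U : Submodule K (Matrix n n K) :=
    Submodule.span K (Set.range fun i : Fin (minpoly K X).natDegree => X ^ (i : ℕ))
  have hUT : U ≤ T := Submodule.span_le.2 (by rintro _ ⟨i, rfl⟩; exact (hpow i).1)
  have hUeq : U = T := by
    refine Submodule.eq_of_le_of_finrank_le hUT ?_
    rw [finrank_span_eq_card (linearIndependent_pow X), Fintype.card_fin, ← hdeg]
    refine le_trans ?_ hle
    have := finrank_range_le_card (R := K) fun i => ι (e i)
    rw [Fintype.card_fin] at this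
    exact this
  have hUc : ∀ a ∈ U, ∀ b ∈ U, a * b = b * a := by
    intro a ha b hb
    induction ha using Submodule.span_induction with
    | zero => simp
    | add a a' _ _ h h' => rw [add_mul, mul_add, h, h']
    | smul c a _ h => rw [smul_mul_assoc, mul_smul_comm, h]
    | mem a ha =>
      obtain ⟨i, rfl⟩ := ha
      induction hb using Submodule.span_induction with
      | zero => simp
      | add b b' _ _ h h' => rw [add_mul, mul_add, h, h']
      | smul c b _ h => rw [smul_mul_assoc, mul_smul_comm, h]
      | mem b hb =>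
        obtain ⟨j, rfl⟩ := hb
        exact (Commute.pow_pow_self X _ _).eq
  intro a ha b hb
  apply hι
  rw [map_mul, map_mul]
  exact hUc _ (hUeq ▸ hsT a ha) _ (hUeq ▸ hsT b hb)

/-- Hua's identity: an additive subgroup closed under inversion is closed under `a b a`. -/
theorem mul_mul_mem_of_inv_closed {A : Type*} [Ring A] (S : AddSubgroup A)
    (hinv : ∀ a ∈ S, a ≠ 0 → ∃ b ∈ S, a * b = 1 ∧ b * a = 1) :
    ∀ a ∈ S, ∀ b ∈ S, a * b * a ∈ S := by
  intro a ha b hb
  by_cases ha0 : a = 0
  · simp [ha0]
  by_cases hb0 : b = 0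
  · simp [hb0]
  obtain ⟨a', ha', haa', ha'a⟩ := hinv a ha ha0
  obtain ⟨b', hb', hbb', hb'b⟩ := hinv b hb hb0
  by_cases hc0 : b' - a = 0
  · rw [sub_eq_zero] at hc0
    rw [mul_assoc, ← hc0, hbb', mul_one, hc0]; exact ha
  obtain ⟨c, hc, hcc, hc'c⟩ := hinv _ (S.sub_mem hb' ha) hc0
  have key : (a' + c) * (a - a * b * a) = 1 := by
    have h1 : a - a * b * a = (b' - a) * (b * a) := by
      rw [sub_mul, ← mul_assoc, hb'b, one_mul, mul_assoc]
    have h2 : c * (a - a * b * a) = b * a := by rw [h1, ← mul_assoc, hc'c, one_mul]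
    rw [add_mul, h2, mul_sub, ← mul_assoc, ← mul_assoc, ha'a, one_mul, sub_add_cancel]
  have hs0 : a' + c ≠ 0 := by
    intro h0
    rw [h0, zero_mul] at key
    exact ha0 (by rw [← mul_one a, ← key, mul_zero])
  obtain ⟨s, hs, hss, hs's⟩ := hinv _ (S.add_mem ha' hc) hs0
  have : s = a - a * b * a := by rw [← mul_one s, ← key, ← mul_assoc, hs's, one_mul]
  have h3 := S.sub_mem ha hs
  rwa [this, sub_sub_cancel] at h3

/-- In a finite ring of characteristic two, an additive subgroup containing `1` and closed under
inversion of nonzero elements is a commutative subring. -/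
theorem comm_and_mul_mem_of_inv_closed {A : Type*} [Ring A] [Finite A] (h2 : (2 : A) = 0)
    (S : AddSubgroup A) (h1 : (1 : A) ∈ S)
    (hinv : ∀ a ∈ S, a ≠ 0 → ∃ b ∈ S, a * b = 1 ∧ b * a = 1) :
    (∀ a ∈ S, ∀ b ∈ S, a * b = b * a) ∧ ∀ a ∈ S, ∀ b ∈ S, a * b ∈ S := by
  classical
  rcases subsingleton_or_nontrivial A with hA | hA
  · exact ⟨fun _ _ _ _ => Subsingleton.elim _ _, fun a _ b _ => Subsingleton.elim 1 (a * b) ▸ h1⟩
  have : CharP A 2 := CharTwo.of_one_ne_zero_of_two_eq_zero one_ne_zero h2
  let _ : Algebra (ZMod 2) A := ZMod.algebra A 2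
  have hU := mul_mul_mem_of_inv_closed S hinv
  let bA := Module.finBasis (ZMod 2) A
  let f := Algebra.leftMulMatrix bA
  have hf : Function.Injective f := Algebra.leftMulMatrix_injective bA
  have hcomm : ∀ a ∈ S, ∀ b ∈ S, a * b = b * a := by
    intro a ha b hb
    apply hf
    rw [map_mul, map_mul]
    refine comm_of_jordan ((AddSubgroup.toZModSubmodule 2 S).map f.toLinearMap)
      ⟨1, h1, map_one f⟩ ?_ ?_ _ ⟨a, ha, rfl⟩ _ ⟨b, hb, rfl⟩
    · rintro _ ⟨a, ha, rfl⟩ _ ⟨b, hb, rfl⟩
      exact ⟨a * b * a, hU a ha b hb, by simp⟩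
    · rintro _ ⟨a, ha, rfl⟩ ha0
      obtain ⟨b, -, hab, -⟩ := hinv a ha (by rintro rfl; simp at ha0)
      have : (f a).det * (f b).det = 1 := by rw [← Matrix.det_mul, ← map_mul, hab, map_one,
        Matrix.det_one]
      exact left_ne_zero_of_mul_eq_one this
  refine ⟨hcomm, fun a ha b hb => ?_⟩
  let sq : S → S := fun s => ⟨s * s, by simpa using hU s s.2 1 h1⟩
  have hsq : Function.Injective sq := by
    intro s t hst
    have h3 : (s : A) * s = t * t := congrArg Subtype.val hst
    by_contra hne
    obtain ⟨c, -, hc, -⟩ := hinv _ (S.sub_mem s.2 t.2) (sub_ne_zero.2 fun h => hne (Subtype.ext h))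
    have h4 : ((s : A) - t) * (s - t) = 0 := by
      rw [sub_mul, mul_sub, mul_sub, h3, hcomm s s.2 t t.2]
      have : (t : A) * t - t * s - (t * s - t * t) = 2 * (t * t - t * s) := by noncomm_ring
      rw [this, h2, zero_mul]
    apply hne
    apply Subtype.ext
    rw [← sub_eq_zero, ← mul_one ((s : A) - t), ← hc, ← mul_assoc, h4, zero_mul]
  obtain ⟨s, hs⟩ := Finite.surjective_of_injective hsq ⟨a, ha⟩
  have hs' : (s : A) * s = a := congrArg Subtype.val hs
  have := hU s s.2 b hb
  rwa [mul_assoc, hcomm b hb s s.2, ← mul_assoc, hs'] at this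

/-- A transitive inversion-closed additive group of endomorphisms of an elementary abelian
`2`-group is the group of multiplications of a field structure. -/
theorem exists_field_of_inv_closed {U : Type*} [AddCommGroup U] [Finite U] [Nontrivial U]
    (h2 : ∀ u : U, u + u = 0) (S : AddSubgroup (AddMonoid.End U)) (h1 : (1 : AddMonoid.End U) ∈ S)
    (hinv : ∀ a ∈ S, a ≠ 0 → ∃ b ∈ S, a * b = 1 ∧ b * a = 1)
    (htr : ∀ u₀ : U, u₀ ≠ 0 → ∀ u : U, ∃ a ∈ S, a u₀ = u) :
    ∃ (F : Type) (_ : Field F) (_ : Fintype F) (e : F ≃+ U),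
      (∀ a ∈ S, ∃ t : F, ∀ s, a (e s) = e (t * s)) ∧
      ∀ t : F, ∃ a ∈ S, ∀ s, a (e s) = e (t * s) := by
  classical
  have : Finite (AddMonoid.End U) :=
    Finite.of_injective (fun a : AddMonoid.End U => (a : U → U)) DFunLike.coe_injective
  have h2' : (2 : AddMonoid.End U) = 0 := by
    rw [← one_add_one_eq_two]
    exact AddMonoidHom.ext fun u => h2 u
  obtain ⟨hcomm, hmul⟩ := comm_and_mul_mem_of_inv_closed h2' S h1 hinv
  obtain ⟨u₀, hu₀⟩ := exists_ne (0 : U)
  let K : Subring (AddMonoid.End U) :=
    { S with mul_mem' := fun ha hb => hmul _ ha _ hb, one_mem' := h1 }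
  have hK : IsField K := by
    refine ⟨⟨0, 1, fun h => hu₀ ?_⟩, fun a b => Subtype.ext (hcomm _ a.2 _ b.2), fun {a} ha => ?_⟩
    · have := congrArg (fun a : K => (a : AddMonoid.End U) u₀) h
      exact this.symm
    · obtain ⟨b, hb, hab, -⟩ := hinv a a.2 fun h => ha (Subtype.ext h)
      exact ⟨⟨b, hb⟩, Subtype.ext hab⟩
  let _ : Field K := hK.toField
  let ev : K →+ U := { toFun := fun a => (a : AddMonoid.End U) u₀, map_zero' := rfl,
                       map_add' := fun _ _ => rfl }
  have hev : Function.Bijective ev := by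
    constructor
    · rw [injective_iff_map_eq_zero]
      intro a ha
      by_contra ha0
      obtain ⟨b, -, -, hba⟩ := hinv a a.2 fun h => ha0 (Subtype.ext h)
      apply hu₀
      have h3 : (b * (a : AddMonoid.End U)) u₀ = u₀ := by rw [hba]; rfl
      have h4 : (a : AddMonoid.End U) u₀ = 0 := ha
      rw [← h3]
      change b ((a : AddMonoid.End U) u₀) = 0
      rw [h4, map_zero]
    · intro u
      obtain ⟨a, ha, hau⟩ := htr u₀ hu₀ u
      exact ⟨⟨a, ha⟩, hau⟩
  let r : Shrink.{0} K ≃+* K := (equivShrink.{0} K).symm.ringEquiv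
  have : Finite (Shrink.{0} K) := Finite.of_equiv K r.toEquiv.symm
  refine ⟨Shrink.{0} K, inferInstance, Fintype.ofFinite _,
    r.toAddEquiv.trans (AddEquiv.ofBijective ev hev), fun a ha => ⟨r.symm ⟨a, ha⟩, fun s => ?_⟩,
    fun t => ⟨(r t : K), (r t).2, fun s => ?_⟩⟩
  · change a (ev (r s)) = ev (r (r.symm ⟨a, ha⟩ * s))
    rw [map_mul, RingEquiv.apply_symm_apply]
    rfl
  · change (r t : AddMonoid.End U) (ev (r s)) = ev (r (t * s))
    rw [map_mul]
    rfl

end CL.TI
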