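import Cfsg.Agent.Base
import Cfsg.Agent.ClsK.TI

/-!
# Large TI-subgroups: the symmetry theorem

`Large V P` collects the properties of an elementary abelian TI-subgroup `V` and the subgroup
`P = C_Q(V)`, `Q = O₂(N(V))`, in Timmesfeld's situation.  We show: if a conjugate `V^g ≠ V` lies
in `P`, then `V ≤ P^g`.
-/

set_option autoImplicit false

namespace CL.TI

open Subgroup CL.ClsK
open scoped commutatorElement

variable {G : Type*} [Group G]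

theorem cm_eq_one {x y : G} : ⁅x, y⁆ = 1 ↔ x * y = y * x := commutatorElement_eq_one_iff_mul_comm

theorem inv_eq_of_sq {x : G} (h : x * x = 1) : x⁻¹ = x := inv_eq_of_mul_eq_one_right h

theorem comm_of_sq {A : Subgroup G} (h : ∀ a ∈ A, a * a = 1) :
    ∀ a ∈ A, ∀ b ∈ A, a * b = b * a := by
  intro a ha b hb
  rw [← inv_eq_of_sq (h _ (A.mul_mem ha hb)), mul_inv_rev, inv_eq_of_sq (h a ha),
    inv_eq_of_sq (h b hb)]

theorem cm_mem_left {A : Subgroup G} {x a : G} (hx : x ∈ normalizer (A : Set G)) (ha : a ∈ A) :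
    ⁅x, a⁆ ∈ A :=
  A.mul_mem (conj_mem_of_mem_normalizer hx ha) (A.inv_mem ha)

theorem cm_mem_right {A : Subgroup G} {x a : G} (hx : x ∈ normalizer (A : Set G)) (ha : a ∈ A) :
    ⁅a, x⁆ ∈ A := by
  rw [← commutatorElement_inv]; exact A.inv_mem (cm_mem_left hx ha)

theorem mem_normalizer_of_comm {A : Subgroup G} {x : G} (h : ∀ a ∈ A, x * a = a * x) :
    x ∈ normalizer (A : Set G) :=
  centralizer_le_normalizer _ (mem_centralizer_iff.2 fun a ha => (h a ha).symm)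

theorem eq_one_of_mem_of_mem {A B : Subgroup G} (h : A ⊓ B = ⊥) {x : G} (ha : x ∈ A)
    (hb : x ∈ B) : x = 1 := by
  rw [← mem_bot, ← h]; exact ⟨ha, hb⟩

/-- `B` is a conjugate of `V`. -/
def IsCj (V B : Subgroup G) : Prop := ∃ g : G, B = cj g V

theorem IsCj.refl (V : Subgroup G) : IsCj V V := ⟨1, (cj_one V).symm⟩

theorem IsCj.cj {V B : Subgroup G} (h : IsCj V B) (x : G) : IsCj V (cj x B) := by
  obtain ⟨g, rfl⟩ := h
  exact ⟨x * g, cj_cj _ _ _⟩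

theorem IsCj.symm {V B : Subgroup G} (h : IsCj V B) : IsCj B V := by
  obtain ⟨g, rfl⟩ := h
  exact ⟨g⁻¹, (cj_inv_cj _ _).symm⟩

theorem IsCj.trans {V B C : Subgroup G} (h : IsCj V B) (h' : IsCj B C) : IsCj V C := by
  obtain ⟨g, rfl⟩ := h'
  exact h.cj g

theorem IsCj.card_eq {V B : Subgroup G} (h : IsCj V B) : Nat.card B = Nat.card V := by
  obtain ⟨g, rfl⟩ := h
  exact card_cj g V

theorem IsCj.sq {V B : Subgroup G} (h : IsCj V B) (hV : ∀ v ∈ V, v * v = 1) :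
    ∀ b ∈ B, b * b = 1 := by
  obtain ⟨g, rfl⟩ := h
  rintro _ ⟨v, hv, rfl⟩
  rw [← map_mul, hV v hv, map_one]

theorem IsCj.isTI {V B : Subgroup G} (h : IsCj V B) (hV : IsTI V) : IsTI B := by
  obtain ⟨g, rfl⟩ := h
  exact hV.cj g

theorem IsCj.eq_of_mem {V A B : Subgroup G} (hV : IsTI V) (hA : IsCj V A) (hB : IsCj V B) {w : G}
    (hw : w ≠ 1) (hwA : w ∈ A) (hwB : w ∈ B) : A = B := by
  obtain ⟨g, rfl⟩ := hA
  obtain ⟨h, rfl⟩ := hB
  rcases hV.cj_eq_or g h with h1 | h1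
  · exact h1
  · exact absurd (eq_one_of_mem_of_mem h1 hwA hwB) hw

theorem IsCj.inf_eq_bot {V A B : Subgroup G} (hV : IsTI V) (hA : IsCj V A) (hB : IsCj V B)
    (hne : A ≠ B) : A ⊓ B = ⊥ := by
  rw [eq_bot_iff]
  intro w hw
  by_contra hw1
  exact hne (IsCj.eq_of_mem hV hA hB hw1 hw.1 hw.2)

theorem IsCj.exists_ne_one {V B : Subgroup G} (h : IsCj V B) (hne : B ≠ V) :
    ∃ b ∈ B, b ≠ 1 := by
  by_contra! h1
  have hB : B = ⊥ := eq_bot_iff.2 fun b hb => h1 b hb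
  obtain ⟨g, rfl⟩ := h
  exact hne (by rw [cj_eq_bot_iff.1 hB, cj_bot])

theorem isPGroup_of_sq {A : Subgroup G} (h : ∀ a ∈ A, a * a = 1) : IsPGroup 2 A :=
  fun a => ⟨1, Subtype.ext (by simpa [sq] using h a a.2)⟩

/-- Conjugates of an elementary abelian TI-subgroup, one normalizing the other, commute. -/
theorem IsCj.comm_of_le_normalizer [Finite G] {V A B : Subgroup G} (hV : IsTI V)
    (hsq : ∀ v ∈ V, v * v = 1) (hA : IsCj V A) (hB : IsCj V B)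
    (hN : B ≤ normalizer (A : Set G)) : ∀ a ∈ A, ∀ b ∈ B, a * b = b * a := by
  by_cases hne : A = B
  · subst hne; exact comm_of_sq (hA.sq hsq)
  exact comm_of_ti_normalizes (isPGroup_of_sq (hA.sq hsq)) (isPGroup_of_sq (hB.sq hsq))
    (fun a _ b hb hb1 h => (hB.isTI hV).mem_normalizer hb hb1 h)
    (by rw [hA.card_eq, hB.card_eq]) (IsCj.inf_eq_bot hV hA hB hne) hN

theorem IsCj.comm_of_comm [Finite G] {V A B : Subgroup G} (hV : IsTI V)
    (hsq : ∀ v ∈ V, v * v = 1) (hA : IsCj V A) (hB : IsCj V B) {a : G} (ha : a ∈ A) (ha1 : a ≠ 1)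
    (h : ∀ b ∈ B, b * a = a * b) : ∀ a ∈ A, ∀ b ∈ B, a * b = b * a :=
  IsCj.comm_of_le_normalizer hV hsq hA hB
    fun b hb => (hA.isTI hV).mem_normalizer_of_comm ha ha1 (h b hb)

/-- The properties of `V` and `P = C_Q(V)` used in the proof of Timmesfeld's theorem. -/
structure Large (V P : Subgroup G) : Prop where
  sq : ∀ v ∈ V, v * v = 1
  ti : IsTI V
  le : V ≤ P
  cent : ∀ x ∈ P, ∀ v ∈ V, x * v = v * x
  norm : normalizer (V : Set G) ≤ normalizer (P : Set G)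
  comm : ∀ x ∈ P, ∀ y ∈ P, ⁅x, y⁆ ∈ V
  abel : ∀ A : Subgroup G, A ≤ P → (∀ a ∈ A, ∀ b ∈ A, a * b = b * a) →
    (∀ m ∈ normalizer (V : Set G), ∀ a ∈ A, m * a * m⁻¹ ∈ A) → A ≤ V
  faith : ∀ y ∈ normalizer (V : Set G), (∀ x ∈ P, ⁅y, x⁆ ∈ V) → (∀ v ∈ V, y * v = v * y) → y ∈ P

namespace Large

variable {V P : Subgroup G}

theorem cj (h : Large V P) (g : G) : Large (cj g V) (cj g P) where
  sq := (IsCj.cj (IsCj.refl V) g).sq h.sq
  ti := h.ti.cj g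
  le := cj_mono g h.le
  cent := by
    rintro _ ⟨x, hx, rfl⟩ _ ⟨v, hv, rfl⟩
    rw [← map_mul, ← map_mul, h.cent x hx v hv]
  norm := by
    rw [← cj_normalizer, ← cj_normalizer]; exact cj_mono g h.norm
  comm := by
    rintro _ ⟨x, hx, rfl⟩ _ ⟨y, hy, rfl⟩
    rw [← map_commutatorElement]
    exact ⟨_, h.comm x hx y hy, rfl⟩
  abel := by
    intro A hA hc hn
    rw [← cj_cj_inv g A]
    refine cj_mono g (h.abel _ ?_ (comm_cj hc _) ?_)
    · rw [← cj_inv_cj g P]; exact cj_mono _ hA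
    · intro m hm a ha
      rw [mem_cj] at ha ⊢
      have := hn (g * m * g⁻¹) (by rw [← cj_normalizer]; exact conj_mem_cj hm) _ ha
      convert this using 1
      group
  faith := by
    intro y hy h1 h2
    rw [← cj_normalizer, mem_cj] at hy
    rw [mem_cj]
    refine h.faith _ hy (fun x hx => ?_) (fun v hv => ?_)
    · have := mem_cj.1 (h1 _ (conj_mem_cj hx))
      convert this using 1
      simp only [commutatorElement_def]; group
    · have := h2 _ (conj_mem_cj hv)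
      calc g⁻¹ * y * g * v = g⁻¹ * (y * (g * v * g⁻¹)) * g := by group
        _ = g⁻¹ * (g * v * g⁻¹ * y) * g := by rw [this]
        _ = v * (g⁻¹ * y * g) := by group

theorem cj_eq (h : Large V P) {g n : G} (hgn : ClsK.cj n V = ClsK.cj g V) :
    ClsK.cj n P = ClsK.cj g P := by
  have h1 : g⁻¹ * n ∈ normalizer (V : Set G) := by
    rw [← cj_eq_iff, ← cj_cj, hgn, cj_inv_cj]
  rw [← cj_cj_inv g (ClsK.cj n P), cj_cj g⁻¹, cj_eq_iff.2 (h.norm h1)]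

theorem le_norm (h : Large V P) : P ≤ normalizer (V : Set G) :=
  fun x hx => mem_normalizer_of_comm (h.cent x hx)

theorem center (h : Large V P) {x : G} (hx : x ∈ P) (hc : ∀ y ∈ P, x * y = y * x) : x ∈ V := by
  refine h.abel (P ⊓ centralizer (P : Set G)) inf_le_left
    (fun a ha b hb => (hb.2 a ha.1)) (fun m hm a ha => ?_) ⟨hx, fun y hy => (hc y hy).symm⟩
  refine ⟨conj_mem_of_mem_normalizer (h.norm hm) ha.1, fun y hy => ?_⟩
  have := ha.2 _ (conj_inv_mem_of_mem_normalizer (h.norm hm) hy)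
  calc y * (m * a * m⁻¹) = m * (m⁻¹ * y * m * a) * m⁻¹ := by group
    _ = m * (a * (m⁻¹ * y * m)) * m⁻¹ := by rw [this]
    _ = m * a * m⁻¹ * y := by group

theorem cm_mul_left (h : Large V P) {x y z : G} (hx : x ∈ P) (hy : y ∈ P) (hz : z ∈ P) :
    ⁅x * y, z⁆ = ⁅x, z⁆ * ⁅y, z⁆ := by
  calc ⁅x * y, z⁆ = x * ⁅y, z⁆ * x⁻¹ * ⁅x, z⁆ := by simp only [commutatorElement_def]; group
    _ = ⁅y, z⁆ * ⁅x, z⁆ := by rw [h.cent x hx _ (h.comm y hy z hz), mul_inv_cancel_right]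
    _ = ⁅x, z⁆ * ⁅y, z⁆ := comm_of_sq h.sq _ (h.comm y hy z hz) _ (h.comm x hx z hz)

theorem cm_mul_right (h : Large V P) {x y z : G} (hx : x ∈ P) (hy : y ∈ P) (hz : z ∈ P) :
    ⁅x, y * z⁆ = ⁅x, y⁆ * ⁅x, z⁆ := by
  calc ⁅x, y * z⁆ = ⁅x, y⁆ * (y * ⁅x, z⁆ * y⁻¹) := by simp only [commutatorElement_def]; group
    _ = ⁅x, y⁆ * ⁅x, z⁆ := by rw [h.cent y hy _ (h.comm x hx z hz), mul_inv_cancel_right]

theorem sq_mem (h : Large V P) {x : G} (hx : x ∈ P) : x * x ∈ V :=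
  h.center (P.mul_mem hx hx) fun y hy => by
    rw [← cm_eq_one, h.cm_mul_left hx hx hy, h.sq _ (h.comm x hx y hy)]

/-- If `⁅x, z⁆ = ⁅y, z⁆` then `x⁻¹ y` commutes with `z`. -/
theorem comm_of_cm_eq (h : Large V P) {x y z : G} (hx : x ∈ P) (hy : y ∈ P) (hz : z ∈ P)
    (he : ⁅x, z⁆ = ⁅y, z⁆) : x⁻¹ * y * z = z * (x⁻¹ * y) := by
  have h1 := h.cm_mul_left hx (P.mul_mem (P.inv_mem hx) hy) hz
  rw [mul_inv_cancel_left, ← he, left_eq_mul] at h1
  exact cm_eq_one.1 h1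

section Pair

variable {B : Subgroup G}

theorem reg (h : Large V P) (hB : IsCj V B) (hBP : B ≤ P) (hne : B ≠ V) {y b : G} (hy : y ∈ P)
    (hb : b ∈ B) (hb1 : b ≠ 1) (hyb : y * b = b * y) : ∀ c ∈ B, y * c = c * y := by
  intro c hc
  rw [← cm_eq_one]
  exact eq_one_of_mem_of_mem (IsCj.inf_eq_bot h.ti hB (IsCj.refl V) hne)
    (cm_mem_left ((hB.isTI h.ti).mem_normalizer_of_comm hb hb1 hyb) hc) (h.comm y hy c (hBP hc))

/-- Some `N(V)`-conjugate of `B` has no non-trivial element commuting with a non-trivial element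
of `B`. -/
theorem exists_opp [Finite G] (h : Large V P) (hB : IsCj V B) (hBP : B ≤ P) (hne : B ≠ V) :
    ∃ m ∈ normalizer (V : Set G), ∀ b ∈ B, ∀ c ∈ ClsK.cj m B, b * c = c * b → b = 1 ∨ c = 1 := by
  by_contra! hcon
  have hall : ∀ m ∈ normalizer (V : Set G), ∀ b ∈ B, ∀ c ∈ ClsK.cj m B, b * c = c * b := by
    intro m hm
    obtain ⟨b, hb, c, hc, hbc, hb1, hc1⟩ := hcon m hm
    have hcP : c ∈ P := cj_le_of_mem_normalizer (h.norm hm) hBP hc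
    intro b' hb' c' hc'
    exact (IsCj.comm_of_comm h.ti h.sq (hB.cj m) hB hc hc1
      (fun d hd => (h.reg hB hBP hne hcP hb hb1 hbc.symm d hd).symm) c' hc' b' hb').symm
  let S : Set G := {x | ∃ m ∈ normalizer (V : Set G), x ∈ ClsK.cj m B}
  have hS : ∀ x ∈ S, ∀ y ∈ S, x * y = y * x := by
    rintro _ ⟨m, hm, b, hb, rfl⟩ y ⟨m', hm', hy⟩
    have h1 : m⁻¹ * y * m ∈ ClsK.cj (m⁻¹ * m') B := by
      rw [← cj_cj]; simpa using conj_mem_cj (g := m⁻¹) hy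
    have := hall _ (mul_mem (inv_mem hm) hm') b hb _ h1
    calc m * b * m⁻¹ * y = m * (b * (m⁻¹ * y * m)) * m⁻¹ := by group
      _ = m * (m⁻¹ * y * m * b) * m⁻¹ := by rw [this]
      _ = y * (m * b * m⁻¹) := by group
  have hle : closure S ≤ V := by
    refine h.abel _ ((closure_le _).2 ?_) ?_ ?_
    · rintro x ⟨m, hm, hx⟩
      exact cj_le_of_mem_normalizer (h.norm hm) hBP hx
    · exact comm_of_isMulCommutative (isMulCommutative_closure hS)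
    · intro m hm a ha
      induction ha using closure_induction with
      | mem x hx =>
        obtain ⟨m', hm', hx⟩ := hx
        refine subset_closure ⟨m * m', mul_mem hm hm', ?_⟩
        rw [← cj_cj]; exact conj_mem_cj hx
      | one => simp
      | mul x y _ _ hx hy => simpa [mul_assoc] using mul_mem hx hy
      | inv x _ hx => simpa [mul_assoc] using inv_mem hx
  obtain ⟨b, hb, hb1⟩ := hB.exists_ne_one hne
  exact hne (IsCj.eq_of_mem h.ti hB (IsCj.refl V) hb1 hb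
    (hle (subset_closure ⟨1, one_mem _, by rwa [cj_one]⟩)))

theorem cj_ne (hne : B ≠ V) {m : G} (hm : m ∈ normalizer (V : Set G)) : ClsK.cj m B ≠ V :=
  fun he => hne (cj_injective m (by rw [he, cj_eq_iff.2 hm]))

theorem surj_of_opp [Finite G] (h : Large V P) {C : Subgroup G} (hBP : B ≤ P) (hC : IsCj V C)
    (hCP : C ≤ P) (hopp : ∀ b ∈ B, ∀ c ∈ C, b * c = c * b → b = 1 ∨ c = 1) {b : G} (hb : b ∈ B)
    (hb1 : b ≠ 1) {v : G} (hv : v ∈ V) : ∃ c ∈ C, ⁅c, b⁆ = v := by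
  let f : C → V := fun c => ⟨⁅(c : G), b⁆, h.comm _ (hCP c.2) _ (hBP hb)⟩
  have hf : Function.Injective f := by
    intro c d hcd
    have h1 := h.comm_of_cm_eq (hCP c.2) (hCP d.2) (hBP hb) (congrArg Subtype.val hcd)
    rcases hopp b hb _ (C.mul_mem (C.inv_mem c.2) d.2) h1.symm with h2 | h2
    · exact absurd h2 hb1
    · exact Subtype.ext (inv_mul_eq_one.1 h2)
  obtain ⟨c, hc⟩ := (hf.bijective_of_nat_card_le hC.card_eq.ge).2 ⟨v, hv⟩
  exact ⟨c, c.2, congrArg Subtype.val hc⟩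

theorem exists_cm_eq [Finite G] (h : Large V P) (hB : IsCj V B) (hBP : B ≤ P) (hne : B ≠ V)
    {b : G} (hb : b ∈ B) (hb1 : b ≠ 1) {v : G} (hv : v ∈ V) : ∃ y ∈ P, ⁅y, b⁆ = v := by
  obtain ⟨m, hm, hopp⟩ := h.exists_opp hB hBP hne
  have hCP := cj_le_of_mem_normalizer (h.norm hm) hBP
  obtain ⟨c, hc, he⟩ := h.surj_of_opp hBP (hB.cj m) hCP hopp hb hb1 hv
  exact ⟨c, hCP hc, he⟩

theorem exists_conj_eq [Finite G] (h : Large V P) (hB : IsCj V B) (hBP : B ≤ P) (hne : B ≠ V)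
    {b : G} (hb : b ∈ B) (hb1 : b ≠ 1) {v : G} (hv : v ∈ V) : ∃ y ∈ P, y * b * y⁻¹ = v * b := by
  obtain ⟨y, hy, he⟩ := h.exists_cm_eq hB hBP hne hb hb1 hv
  exact ⟨y, hy, by rw [← he, commutatorElement_def, inv_mul_cancel_right]⟩

/-- `P = C · C_P(B)` for an opposite conjugate `C`. -/
theorem decomp [Finite G] (h : Large V P) {C : Subgroup G} (hB : IsCj V B) (hBP : B ≤ P)
    (hne : B ≠ V) (hC : IsCj V C) (hCP : C ≤ P)
    (hopp : ∀ b ∈ B, ∀ c ∈ C, b * c = c * b → b = 1 ∨ c = 1) {y : G} (hy : y ∈ P) :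
    ∃ c ∈ C, ∃ r ∈ P, (∀ b ∈ B, r * b = b * r) ∧ y = c * r := by
  obtain ⟨b, hb, hb1⟩ := hB.exists_ne_one hne
  obtain ⟨c, hc, he⟩ := h.surj_of_opp hBP hC hCP hopp hb hb1 (h.comm y hy b (hBP hb))
  have hr : c⁻¹ * y ∈ P := P.mul_mem (P.inv_mem (hCP hc)) hy
  exact ⟨c, hc, c⁻¹ * y, hr, h.reg hB hBP hne hr hb hb1
    (h.comm_of_cm_eq (hCP hc) hy (hBP hb) he), by group⟩

/-- `C_P(C_P(B)) = V B`. -/
theorem mem_of_cent [Finite G] (h : Large V P) (hB : IsCj V B) (hBP : B ≤ P) (hne : B ≠ V)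
    {c : G} (hc : c ∈ P) (hcent : ∀ r ∈ P, (∀ b ∈ B, r * b = b * r) → c * r = r * c) :
    ∃ v ∈ V, ∃ b ∈ B, c = v * b := by
  obtain ⟨m, hm, hopp⟩ := h.exists_opp hB hBP hne
  have hCP := cj_le_of_mem_normalizer (h.norm hm) hBP
  obtain ⟨b, hb, r, hr, hrC, rfl⟩ := h.decomp (hB.cj m) hCP (cj_ne hne hm) hB hBP
    (fun c hc b hb hcb => (hopp b hb c hc hcb.symm).symm) hc
  have hrV : r ∈ V := by
    refine h.center hr fun y hy => ?_
    obtain ⟨d, hd, s, hs, hsB, rfl⟩ := h.decomp hB hBP hne (hB.cj m) hCP hopp hy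
    have h1 := hcent s hs hsB
    have h2 : r * s = s * r := by
      apply mul_left_cancel (a := b)
      rw [← mul_assoc, h1, ← mul_assoc, hsB b hb, mul_assoc]
    rw [← mul_assoc, hrC d hd, mul_assoc, h2, mul_assoc]
  exact ⟨r, hrV, b, hb, h.cent b (hBP hb) r hrV⟩

/-- If `x ∈ P^g` moves some `v ∈ V` to `b v` with `1 ≠ b ∈ V^g`, then `V ≤ P^g`. -/
theorem le_of_cm_mem [Finite G] (h : Large V P) {g : G} (hBP : ClsK.cj g V ≤ P)
    (hne : ClsK.cj g V ≠ V) {x v : G} (hx : x ∈ ClsK.cj g P) (hv : v ∈ V)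
    (hb : ⁅x, v⁆ ∈ ClsK.cj g V) (hb1 : ⁅x, v⁆ ≠ 1) : V ≤ ClsK.cj g P := by
  have hB : IsCj V (ClsK.cj g V) := (IsCj.refl V).cj g
  obtain ⟨y, hy, he⟩ := h.exists_conj_eq hB hBP hne hb hb1 hv
  have hv1 : v ≠ 1 := by rintro rfl; simp at hb1
  have hxv : x * v * x⁻¹ = y * ⁅x, v⁆ * y⁻¹ := by
    rw [he, ← h.cent _ (hBP hb) v hv, commutatorElement_def, inv_mul_cancel_right]
  have hC : ClsK.cj x V = ClsK.cj (y * g) V := by
    rw [← cj_cj]
    refine IsCj.eq_of_mem h.ti ((IsCj.refl V).cj x) (hB.cj y) (w := x * v * x⁻¹)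
      (by simpa using hv1) (conj_mem_cj hv) (hxv ▸ conj_mem_cj hb)
  have h1 : ClsK.cj x V ≤ P := by
    rw [hC, ← cj_cj]; exact cj_le_of_mem hy hBP
  have h2 : V ≤ ClsK.cj x P := by
    have := cj_mono x h1
    rwa [cj_cj, cj_eq_iff.2 (h.le_norm (hBP ((h.cj g).sq_mem hx)))] at this
  rw [h.cj_eq hC, ← cj_cj] at h2
  have := cj_mono y⁻¹ h2
  rwa [cj_inv_cj, cj_eq_iff.2 (h.le_norm (P.inv_mem hy))] at this

end Pair

/-- An involution `t` acting on `P` with `C_{P/V}(t) = C_P(t)/V`. -/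
structure Act (V P : Subgroup G) (t : G) : Prop where
  norm : t ∈ normalizer (P : Set G)
  cent : ∀ v ∈ V, t * v = v * t
  sq : t * t = 1
  star : ∀ x ∈ P, ⁅x, t⁆ ∈ V → x * t = t * x

theorem Act.cm_comm (h : Large V P) {t : G} (ht : Act V P t) {x : G} (hx : x ∈ P) :
    ⁅x, t⁆ * t = t * ⁅x, t⁆ ∧ ⁅x, t⁆ * ⁅x, t⁆ = 1 := by
  have hc : ⁅x, t⁆ ∈ P := cm_mem_right ht.norm hx
  have h1 : ⁅⁅x, t⁆, t⁆ = ⁅x, t⁆ * ⁅x, t⁆ := by
    simp only [commutatorElement_def, mul_inv_rev, inv_inv, inv_eq_of_sq ht.sq]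
    calc x * t * x⁻¹ * t * t * (t * (x * (t * x⁻¹))) * t
        = x * t * x⁻¹ * (t * t) * t * x * t * x⁻¹ * t := by group
      _ = x * t * x⁻¹ * t * (x * t * x⁻¹ * t) := by rw [ht.sq]; group
  have h2 := ht.star _ hc (h1 ▸ h.sq_mem hc)
  exact ⟨h2, by rw [← h1]; exact cm_eq_one.2 h2⟩

theorem Act.comm_of_cent (h : Large V P) {t : G} (ht : Act V P t) {c : G} (hc : c ∈ P)
    (hcent : ∀ x ∈ P, x * t = t * x → c * x = x * c) : c * t = t * c := by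
  refine ht.star c hc (h.center (cm_mem_right ht.norm hc) fun x hx => ?_)
  have hti := inv_eq_of_sq ht.sq
  -- `⁅t x t, c⁆ = ⁅x, c⁆`
  have h1 : ⁅t * x * t⁻¹, c⁆ = ⁅x, c⁆ := by
    have hxi := P.inv_mem hx
    have e : t * x * t⁻¹ = x * ⁅x⁻¹, t⁆ := by simp only [commutatorElement_def]; group
    rw [e, h.cm_mul_left hx (cm_mem_right ht.norm hxi) hc,
      cm_eq_one.2 (hcent _ (cm_mem_right ht.norm hxi) (ht.cm_comm h hxi).1).symm, mul_one]
  have h2 : ⁅x, t * c * t⁻¹⁆ = ⁅x, c⁆ := by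
    have e : ⁅x, t * c * t⁻¹⁆ = t * ⁅t * x * t⁻¹, c⁆ * t⁻¹ := by
      simp only [commutatorElement_def, mul_inv_rev, hti]
      calc x * (t * c * t) * x⁻¹ * (t * (c⁻¹ * t))
          = (t * t) * x * t * c * t * x⁻¹ * t * c⁻¹ * t := by rw [ht.sq]; group
        _ = _ := by group
    rw [e, h1, ht.cent _ (h.comm x hx c hc), mul_inv_cancel_right]
  have htc : t * c * t⁻¹ ∈ P := conj_mem_of_mem_normalizer ht.norm hc
  have e : ⁅c, t⁆ = c * (t * c * t⁻¹)⁻¹ := by simp only [commutatorElement_def]; group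
  have h3 := h.cm_mul_right hx (P.mul_mem hc (P.inv_mem htc)) htc
  rw [inv_mul_cancel_right, h2, right_eq_mul, cm_eq_one] at h3
  rw [e, h3]

theorem Act.false_of_two (h : Large V P) {t : G} (ht : Act V P t)
    (hc : ∀ x ∈ P, ∀ y ∈ P, y * t = t * y → ⁅x, t⁆ * y = y * ⁅x, t⁆) {W₁ W₂ : Subgroup G}
    (h1 : W₁ ≤ P) (h2 : W₂ ≤ P) (hab : ∀ a ∈ W₁, ∀ b ∈ W₁, a * b = b * a)
    (hsq : ∀ a ∈ W₂, a * a = 1) (hinf : ∀ w ∈ W₁, w ∈ W₂ → w ∈ V)
    (hcov : ∀ x ∈ P, x * x = 1 → x ∈ W₁ ∨ x ∈ W₂)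
    (hcent : ∀ w ∈ W₁, w ∉ V → ∀ y ∈ P, y * w = w * y → y ∈ W₁) {w : G} (hw : w ∈ W₂)
    (hwV : w ∉ V) {x : G} (hx : x ∈ P) (hx1 : ⁅x, t⁆ ∈ W₁) (hxV : ⁅x, t⁆ ∉ V) : False := by
  have hsub : ∀ y ∈ P, y * t = t * y → y ∈ W₁ := fun y hy hyt =>
    hcent _ hx1 hxV y hy (hc x hx y hy hyt).symm
  have hsup : ∀ y ∈ W₁, y * t = t * y := fun y hy =>
    ht.comm_of_cent h (h1 hy) fun z hz hzt => hab y hy z (hsub z hz hzt)
  have hw' : t * w * t⁻¹ ∈ P := conj_mem_of_mem_normalizer ht.norm (h2 hw)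
  have hw1 : w ∉ W₁ := fun h' => hwV (hinf w h' hw)
  rcases hcov _ hw' (by
      calc t * w * t⁻¹ * (t * w * t⁻¹) = t * (w * w) * t⁻¹ := by group
        _ = 1 := by rw [hsq w hw]; group) with h' | h'
  · apply hw1
    have := hsup _ h'
    have e : w = t * w * t⁻¹ := by
      apply mul_left_cancel (a := t)
      rw [← this]; group
    rwa [e]
  · have e : ⁅w, t⁆ = w * (t * w * t⁻¹)⁻¹ := by simp only [commutatorElement_def]; group
    have h3 : ⁅w, t⁆ ∈ W₂ := e ▸ W₂.mul_mem hw (W₂.inv_mem h')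
    have h4 : ⁅w, t⁆ ∈ W₁ := hsub _ (h2 h3) (ht.cm_comm h (h2 hw)).1
    exact hw1 (hsub w (h2 hw) (ht.star w (h2 hw) (hinf _ h4 h3)))

theorem mem_sup_iff (h : Large V P) {B : Subgroup G} (hBP : B ≤ P) {w : G} :
    w ∈ V ⊔ B ↔ ∃ v ∈ V, ∃ b ∈ B, w = v * b := by
  constructor
  · intro hw
    obtain ⟨v, hv, b, hb, rfl⟩ := exists_mul_of_mem_sup (hBP.trans h.le_norm) hw
    exact ⟨v, hv, b, hb, rfl⟩
  · rintro ⟨v, hv, b, hb, rfl⟩
    exact mul_mem_sup hv hb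

theorem sq_of_mem_sup (h : Large V P) {B : Subgroup G} (hB : IsCj V B) (hBP : B ≤ P) :
    ∀ w ∈ V ⊔ B, w * w = 1 := by
  intro w hw
  obtain ⟨v, hv, b, hb, rfl⟩ := (h.mem_sup_iff hBP).1 hw
  calc v * b * (v * b) = v * (b * v) * b := by group
    _ = v * v * (b * b) := by rw [h.cent b (hBP hb) v hv]; group
    _ = 1 := by rw [h.sq v hv, hB.sq h.sq b hb, mul_one]

/-- If `C_P(B) = V B` then no involution acts on `P` as in `Act` unless it lies in `P`. -/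
theorem Act.mem_of_small [Finite G] (h : Large V P) {t : G} (ht : Act V P t)
    (hc : ∀ x ∈ P, ∀ y ∈ P, y * t = t * y → ⁅x, t⁆ * y = y * ⁅x, t⁆) {B : Subgroup G}
    (hB : IsCj V B) (hBP : B ≤ P) (hne : B ≠ V)
    (hR : ∀ r ∈ P, (∀ b ∈ B, r * b = b * r) → r ∈ V ⊔ B) : t ∈ P := by
  refine h.faith t (mem_normalizer_of_comm ht.cent) (fun x hx => ?_) ht.cent
  rw [← commutatorElement_inv, inv_mem_iff]
  by_contra hxV
  obtain ⟨m, hm, hopp⟩ := h.exists_opp hB hBP hne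
  set C := ClsK.cj m B with hCdef
  have hCP : C ≤ P := cj_le_of_mem_normalizer (h.norm hm) hBP
  have hC : IsCj V C := hB.cj m
  have hCne : C ≠ V := cj_ne hne hm
  have hR' : ∀ r ∈ P, (∀ b ∈ C, r * b = b * r) → r ∈ V ⊔ C := by
    intro r hr hrC
    have h1 := hR (m⁻¹ * r * m) (conj_inv_mem_of_mem_normalizer (h.norm hm) hr) fun b hb => by
      have := hrC _ (conj_mem_cj hb)
      calc m⁻¹ * r * m * b = m⁻¹ * (r * (m * b * m⁻¹)) * m := by group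
        _ = m⁻¹ * (m * b * m⁻¹ * r) * m := by rw [this]
        _ = b * (m⁻¹ * r * m) := by group
    rw [← mem_cj, cj_sup, cj_eq_iff.2 hm] at h1
    exact h1
  have hcentral : ∀ {D : Subgroup G}, IsCj V D → D ≤ P → D ≠ V →
      (∀ r ∈ P, (∀ b ∈ D, r * b = b * r) → r ∈ V ⊔ D) →
      ∀ w ∈ V ⊔ D, w ∉ V → ∀ y ∈ P, y * w = w * y → y ∈ V ⊔ D := by
    intro D hD hDP hDne hRD w hw hwV y hy hyw
    obtain ⟨v, hv, b, hb, rfl⟩ := (h.mem_sup_iff hDP).1 hw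
    refine hRD y hy (h.reg hD hDP hDne hy hb (by rintro rfl; simp [hv] at hwV) ?_)
    apply mul_left_cancel (a := v)
    rw [← mul_assoc, ← h.cent y hy v hv, mul_assoc, hyw, mul_assoc]
  have hinf : ∀ w ∈ V ⊔ B, w ∈ V ⊔ C → w ∈ V := by
    intro w hw hw'
    obtain ⟨v, hv, b, hb, rfl⟩ := (h.mem_sup_iff hBP).1 hw
    obtain ⟨v', hv', c, hc', he⟩ := (h.mem_sup_iff hCP).1 hw'
    have e : c = v'⁻¹ * v * b := by rw [mul_assoc, he]; group
    have hu : v'⁻¹ * v ∈ V := V.mul_mem (V.inv_mem hv') hv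
    rcases hopp b hb c hc' (by rw [e, ← mul_assoc, h.cent b (hBP hb) _ hu]) with h1 | h1
    · rw [h1, mul_one]; exact hv
    · rw [he, h1, mul_one]; exact hv'
  have hcov : ∀ x ∈ P, x * x = 1 → x ∈ V ⊔ B ∨ x ∈ V ⊔ C := by
    intro x hx hxx
    obtain ⟨c, hc', r, hr, hrB, rfl⟩ := h.decomp hB hBP hne hC hCP hopp hx
    obtain ⟨v, hv, b, hb, rfl⟩ := (h.mem_sup_iff hBP).1 (hR r hr hrB)
    have e : c * (v * b) * (c * (v * b)) = c * b * (c * b) := by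
      have e1 := h.cent c (hCP hc') v hv
      have e2 := h.cent b (hBP hb) v hv
      calc c * (v * b) * (c * (v * b)) = c * v * b * (c * v) * b := by group
        _ = c * v * (b * v) * c * b := by rw [e1]; group
        _ = c * (v * v) * b * c * b := by rw [e2]; group
        _ = c * b * (c * b) := by rw [h.sq v hv]; group
    rw [e] at hxx
    have e' : b * c = c * b := by
      rw [← inv_eq_of_sq hxx, mul_inv_rev, inv_eq_of_sq (hB.sq h.sq b hb),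
        inv_eq_of_sq (hC.sq h.sq c hc')]
    rcases hopp b hb c hc' e' with h1 | h1
    · right
      rw [h1, mul_one]
      exact mul_mem (mem_sup_right hc') (mem_sup_left hv)
    · left
      rw [h1, one_mul]
      exact mul_mem_sup hv hb
  have hW1 : V ⊔ B ≤ P := sup_le h.le hBP
  have hW2 : V ⊔ C ≤ P := sup_le h.le hCP
  obtain ⟨b, hb, hb1⟩ := hB.exists_ne_one hne
  obtain ⟨c, hc', hc1⟩ := hC.exists_ne_one hCne
  rcases hcov _ (cm_mem_right ht.norm hx) (ht.cm_comm h hx).2 with h1 | h1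
  · exact ht.false_of_two h hc hW1 hW2 (comm_of_sq (h.sq_of_mem_sup hB hBP))
      (h.sq_of_mem_sup hC hCP) hinf hcov (hcentral hB hBP hne hR) (mem_sup_right hc')
      (fun hcV => hCne (IsCj.eq_of_mem h.ti hC (IsCj.refl V) hc1 hc' hcV)) hx h1 hxV
  · exact ht.false_of_two h hc hW2 hW1 (comm_of_sq (h.sq_of_mem_sup hC hCP))
      (h.sq_of_mem_sup hB hBP) (fun w h1 h2 => hinf w h2 h1) (fun x hx hxx => (hcov x hx hxx).symm)
      (hcentral hC hCP hCne hR') (mem_sup_right hb)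
      (fun hbV => hne (IsCj.eq_of_mem h.ti hB (IsCj.refl V) hb1 hb hbV)) hx h1 hxV

/-- **Symmetry**: if `V ≠ V^g ≤ P` then `V ≤ P^g`. -/
theorem le_cj [Finite G] (h : Large V P) {g : G} (hBP : ClsK.cj g V ≤ P)
    (hne : ClsK.cj g V ≠ V) : V ≤ ClsK.cj g P := by
  by_contra hcon
  have hB : IsCj V (ClsK.cj g V) := (IsCj.refl V).cj g
  have hX := h.cj g
  set B := ClsK.cj g V with hBdef
  set X := ClsK.cj g P with hXdef
  have hVB : ∀ v ∈ V, ∀ b ∈ B, v * b = b * v := fun v hv b hb => (h.cent b (hBP hb) v hv).symm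
  have hstar : ∀ x ∈ X, ∀ v ∈ V, ⁅x, v⁆ ∈ B → x * v = v * x := by
    intro x hx v hv hb
    by_contra hxv
    exact hcon (h.le_of_cm_mem hBP hne hx hv hb fun h1 => hxv (cm_eq_one.1 h1))
  have hdisj := IsCj.inf_eq_bot h.ti hB (IsCj.refl V) hne
  have hVX : ∀ v ∈ V, v ∈ X → v = 1 := fun v hv hvX =>
    eq_one_of_mem_of_mem hdisj
      (hX.center hvX fun x hx => (hstar x hx v hv (hX.comm x hx v hvX)).symm) hv
  obtain ⟨v, hv, hv1⟩ := hB.symm.exists_ne_one hne.symm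
  have hRX : ∀ r, (∀ b ∈ B, r * b = b * r) → r ∈ normalizer (X : Set G) := fun r hr =>
    hX.norm (mem_normalizer_of_comm hr)
  have hact : Act B X v := ⟨hRX v (hVB v hv), hVB v hv, h.sq v hv, fun x hx => hstar x hx v hv⟩
  -- `P ∩ X ≤ B`
  have hD : ∀ d ∈ P, d ∈ X → d ∈ B := by
    intro d hd hdX
    obtain ⟨u, hu, b, hb, rfl⟩ := h.mem_of_cent hB hBP hne hd fun r hr hrB =>
      cm_eq_one.1 (hVX _ (h.comm _ hd r hr) (cm_mem_right (hRX r hrB) hdX))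
    rw [hVX u hu ((X.mul_mem_cancel_right (hX.le hb)).1 hdX), one_mul]
    exact hb
  have hX0R : ∀ y ∈ X, y * v = v * y → ∀ r ∈ P, (∀ b ∈ B, r * b = b * r) → ⁅y, r⁆ ∈ B :=
    fun y hy hyv r hr hrB => hD _
      (cm_mem_left (h.norm (h.ti.mem_normalizer_of_comm hv hv1 hyv)) hr)
      (cm_mem_right (hRX r hrB) hy)
  have hXR : ∀ r ∈ P, (∀ b ∈ B, r * b = b * r) → ∀ x ∈ X, ∀ y ∈ X, y * v = v * y →
      ⁅x, r⁆ * y = y * ⁅x, r⁆ := by
    intro r hr hrB x hx y hy hyv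
    have hrB' : ∀ b ∈ B, r⁻¹ * b = b * r⁻¹ := fun b hb => (Commute.inv_left (hrB b hb)).eq
    have hb := hX0R y hy hyv r⁻¹ (P.inv_mem hr) hrB'
    have hxi := X.inv_mem hx
    have hx' : r * x⁻¹ * r⁻¹ ∈ X := conj_mem_of_mem_normalizer (hRX r hrB) hxi
    have h1 : ⁅r * x⁻¹ * r⁻¹, y⁆ = ⁅x⁻¹, y⁆ := by
      have e : ⁅r * x⁻¹ * r⁻¹, y⁆ = r * ⁅x⁻¹, ⁅y, r⁻¹⁆⁻¹ * y⁆ * r⁻¹ := by
        simp only [commutatorElement_def]; group
      rw [e, hX.cm_mul_right hxi (hX.le (B.inv_mem hb)) hy,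
        cm_eq_one.2 (hX.cent _ hxi _ (B.inv_mem hb)), one_mul, hrB _ (hX.comm _ hxi y hy),
        mul_inv_cancel_right]
    have e : ⁅x, r⁆ = x * (r * x⁻¹ * r⁻¹) := by simp only [commutatorElement_def]; group
    rw [← cm_eq_one, e, hX.cm_mul_left hx hx' hy, h1, ← hX.cm_mul_left hx hxi hy]
    simp
  have hXR0 : ∀ r ∈ P, (∀ b ∈ B, r * b = b * r) → ∀ x ∈ X, ⁅x, r⁆ * v = v * ⁅x, r⁆ :=
    fun r hr hrB x hx => hact.comm_of_cent hX (cm_mem_right (hRX r hrB) hx) (hXR r hr hrB x hx)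
  -- `C_P(B)` is abelian
  have hRab : ∀ r ∈ P, (∀ b ∈ B, r * b = b * r) → ∀ s ∈ P, (∀ b ∈ B, s * b = b * s) →
      r * s = s * r := by
    intro r hr hrB s hs hsB
    have hrs : ⁅r, s⁆ ∈ V := h.comm r hr s hs
    rw [← cm_eq_one]
    refine hVX _ hrs (hX.faith _ (mem_normalizer_of_comm (hVB _ hrs)) (fun x hx => ?_) (hVB _ hrs))
    -- compare `r s x s⁻¹ r⁻¹` and `s r x r⁻¹ s⁻¹` modulo `B`
    have key : ∀ x ∈ X, ∃ b ∈ B, r * s * x * s⁻¹ * r⁻¹ = s * r * x * r⁻¹ * s⁻¹ * b := by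
      intro x hx
      have hxi := X.inv_mem hx
      set a := ⁅x⁻¹, r⁆ with ha
      set c := ⁅x⁻¹, s⁆ with hc
      have haX : a ∈ X := cm_mem_right (hRX r hrB) hxi
      have hcX : c ∈ X := cm_mem_right (hRX s hsB) hxi
      have h1 := hX0R c⁻¹ (X.inv_mem hcX) (Commute.inv_left (hXR0 s hs hsB _ hxi)).eq r hr hrB
      have h2 := hX0R a⁻¹ (X.inv_mem haX) (Commute.inv_left (hXR0 r hr hrB _ hxi)).eq s hs hsB
      have h3 := hX.comm _ (X.inv_mem haX) _ (X.inv_mem hcX)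
      refine ⟨⁅a⁻¹, s⁆⁻¹ * ⁅a⁻¹, c⁻¹⁆ * ⁅c⁻¹, r⁆, B.mul_mem (B.mul_mem (B.inv_mem h2) h3) h1, ?_⟩
      simp only [ha, hc, commutatorElement_def]
      group
    obtain ⟨b, hb, he⟩ := key ((s * r)⁻¹ * x * (s * r))
      (conj_inv_mem_of_mem_normalizer (mul_mem (hRX s hsB) (hRX r hrB)) hx)
    have e : ⁅⁅r, s⁆, x⁆ = r * s * ((s * r)⁻¹ * x * (s * r)) * s⁻¹ * r⁻¹ * x⁻¹ := by
      simp only [commutatorElement_def]; group
    rw [e, he]
    have e' : s * r * ((s * r)⁻¹ * x * (s * r)) * r⁻¹ * s⁻¹ * b * x⁻¹ = x * b * x⁻¹ := by group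
    rw [e', hX.cent x hx b hb, mul_inv_cancel_right]
    exact hb
  have hsmall : ∀ r ∈ X, (∀ b ∈ ClsK.cj g B, r * b = b * r) → r ∈ B ⊔ ClsK.cj g B := by
    rintro _ ⟨r, hr, rfl⟩ hrB
    have hrB' : ∀ b ∈ B, r * b = b * r := fun b hb => by
      have := hrB _ ⟨b, hb, rfl⟩
      rw [← map_mul, ← map_mul] at this
      exact (MulAut.conj g).injective this
    rw [← cj_sup]
    exact ⟨r, (h.mem_sup_iff hBP).2 (h.mem_of_cent hB hBP hne hr (hRab r hr hrB')), rfl⟩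
  exact hv1 (hVX v hv (hact.mem_of_small hX (hXR v (h.le hv) (hVB v hv)) ((IsCj.refl B).cj g)
    (cj_mono g hBP) (fun he => hne (cj_injective g he)) hsmall))

end Large

end CL.TI
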