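import Cfsg.Agent.Base
import Cfsg.Agent.TI.Large
import Cfsg.Agent.TI.Jordan
import Cfsg.Agent.Lin.Gen

/-!
# Large TI-subgroups: the group induced on `V V^g` is `SL(2, |V|)`
-/

set_option autoImplicit false

namespace CL.TI

open Subgroup CL.ClsK
open scoped commutatorElement

variable {G : Type*} [Group G] {U : Type*} [AddCommGroup U]

/-- `φ` is an isomorphism of the additive group `U` onto the subgroup `V`. -/
structure Par (φ : U → G) (V : Subgroup G) : Prop where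
  add : ∀ u w, φ (u + w) = φ u * φ w
  inj : Function.Injective φ
  mem : ∀ u, φ u ∈ V
  surj : ∀ v ∈ V, ∃ u, φ u = v

theorem Par.zero {φ : U → G} {V : Subgroup G} (h : Par φ V) : φ 0 = 1 := by
  have := h.add 0 0
  rwa [add_zero, left_eq_mul] at this

theorem Par.eq_one_iff {φ : U → G} {V : Subgroup G} (h : Par φ V) {u : U} : φ u = 1 ↔ u = 0 := by
  rw [← h.zero, h.inj.eq_iff]

variable {V P B X : Subgroup G} {φ ψ : U → G}

theorem exists_end (h : Large V P) (hBP : B ≤ P) (hφ : Par φ V) (hψ : Par ψ B) {y : G}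
    (hy : y ∈ P) : ∃ a : AddMonoid.End U, ∀ u, φ (a u) = ⁅y, ψ u⁆ := by
  choose f hf using fun u => hφ.surj _ (h.comm y hy _ (hBP (hψ.mem u)))
  refine ⟨AddMonoidHom.mk' f fun u w => hφ.inj ?_, hf⟩
  rw [hφ.add, hf, hf, hf, hψ.add, h.cm_mul_right hy (hBP (hψ.mem u)) (hBP (hψ.mem w))]

/-- The additive group of shears induced by `P`. -/
def shears (h : Large V P) (hBP : B ≤ P) (hφ : Par φ V) (hψ : Par ψ B) :
    AddSubgroup (AddMonoid.End U) where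
  carrier := {a | ∃ y ∈ P, ∀ u, φ (a u) = ⁅y, ψ u⁆}
  zero_mem' := ⟨1, P.one_mem, fun u => by simpa using hφ.zero⟩
  add_mem' := by
    rintro a b ⟨y, hy, ha⟩ ⟨z, hz, hb⟩
    refine ⟨y * z, P.mul_mem hy hz, fun u => ?_⟩
    rw [h.cm_mul_left hy hz (hBP (hψ.mem u)), ← ha, ← hb, ← hφ.add]
    rfl
  neg_mem' := by
    rintro a ⟨y, hy, ha⟩
    refine ⟨y, hy, fun u => ?_⟩
    rw [← ha]
    change φ (-(a u)) = _
    congr 1
    rw [neg_eq_iff_add_eq_zero, ← hφ.eq_one_iff, hφ.add, h.sq _ (hφ.mem _)]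

theorem conj_eq_cm_mul (y b : G) : y * b * y⁻¹ = ⁅y, b⁆ * b := by
  rw [commutatorElement_def, inv_mul_cancel_right]

theorem decomp_unique (hdisj : B ⊓ V = ⊥) (hφ : Par φ V) (hψ : Par ψ B) {a b c d : U}
    (he : φ a * ψ b = φ c * ψ d) : a = c ∧ b = d := by
  have h1 : (φ c)⁻¹ * φ a = ψ d * (ψ b)⁻¹ := by
    rw [inv_mul_eq_iff_eq_mul, ← mul_assoc, ← he, mul_inv_cancel_right]
  have h2 : (φ c)⁻¹ * φ a = 1 := eq_one_of_mem_of_mem hdisj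
    (h1 ▸ B.mul_mem (hψ.mem d) (B.inv_mem (hψ.mem b))) (V.mul_mem (V.inv_mem (hφ.mem c)) (hφ.mem a))
  rw [h2] at h1
  exact ⟨(hφ.inj (inv_mul_eq_one.1 h2)).symm, (hψ.inj (mul_inv_eq_one.1 h1.symm)).symm⟩

theorem exists_left_inv [Finite G] (h : Large V P) (hX : Large B X) (hB : IsCj V B) (hBP : B ≤ P)
    (hVX : V ≤ X) (hne : B ≠ V) (hφ : Par φ V) (hψ : Par ψ B) {a : AddMonoid.End U}
    (ha : a ∈ shears h hBP hφ hψ) (ha0 : a ≠ 0) : ∃ c ∈ shears hX hVX hψ hφ, c * a = 1 := by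
  obtain ⟨y, hy, ha⟩ := ha
  obtain ⟨u, hu⟩ : ∃ u, a u ≠ 0 := by
    by_contra! h0
    exact ha0 (AddMonoidHom.ext h0)
  have hv1 : φ (a u) ≠ 1 := fun h1 => hu (hφ.eq_one_iff.1 h1)
  obtain ⟨x, hx, he⟩ := hX.exists_conj_eq hB.symm hVX hne.symm (hφ.mem (a u)) hv1 (hψ.mem u)
  have hVB : ∀ u w, ψ u * φ w = φ w * ψ u := fun u w => h.cent _ (hBP (hψ.mem u)) _ (hφ.mem w)
  have hC : cj x V = cj y B := by
    refine IsCj.eq_of_mem h.ti ((IsCj.refl V).cj x) (hB.cj y) (w := x * φ (a u) * x⁻¹)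
      (by simpa using hv1) (conj_mem_cj (hφ.mem _)) ?_
    rw [he, hVB, ha, ← conj_eq_cm_mul]
    exact conj_mem_cj (hψ.mem u)
  obtain ⟨c, hc⟩ := exists_end hX hVX hψ hφ hx
  refine ⟨c, ⟨x, hx, hc⟩, AddMonoidHom.ext fun w => ?_⟩
  have h1 : y * ψ w * y⁻¹ ∈ cj x V := hC ▸ conj_mem_cj (hψ.mem w)
  obtain ⟨v, hv, h2⟩ := h1
  obtain ⟨w', rfl⟩ := hφ.surj v hv
  have h3 : x * φ w' * x⁻¹ = y * ψ w * y⁻¹ := h2
  rw [conj_eq_cm_mul, conj_eq_cm_mul, ← hc, ← ha, hVB] at h3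
  obtain ⟨h4, h5⟩ := decomp_unique (IsCj.inf_eq_bot h.ti hB (IsCj.refl V) hne) hφ hψ h3
  change c (a w) = w
  rw [← h4, h5]

theorem cj_eq_of_par {n : G} (hφ : Par φ V) (hψ : Par ψ B) (hn : ∀ u, n * φ u * n⁻¹ = ψ u) :
    cj n V = B := by
  ext b
  constructor
  · rintro ⟨v, hv, rfl⟩
    obtain ⟨u, rfl⟩ := hφ.surj v hv
    change n * φ u * n⁻¹ ∈ B
    rw [hn]; exact hψ.mem u
  · intro hb
    obtain ⟨u, rfl⟩ := hψ.surj b hb
    exact hn u ▸ conj_mem_cj (hφ.mem u)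

theorem shears_le (h : Large V P) (hX : Large B X) (hBP : B ≤ P) (hVX : V ≤ X)
    (hφ : Par φ V) (hψ : Par ψ B) {n : G} (hn : ∀ u, n * φ u * n⁻¹ = ψ u)
    (hn' : ∀ u, n * ψ u * n⁻¹ = φ u) (hsw : cj n P = X) :
    shears h hBP hφ hψ ≤ shears hX hVX hψ hφ := by
  rintro a ⟨y, hy, ha⟩
  refine ⟨n * y * n⁻¹, hsw ▸ conj_mem_cj hy, fun u => ?_⟩
  rw [← hn, ← hn' u, ha]
  simp only [commutatorElement_def]
  group

theorem exists_par [Finite G] (h : Large V P) (hB : IsCj V B) (hBP : B ≤ P) (hne : B ≠ V)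
    (hφ : Par φ V) : ∃ ψ : U → G, Par ψ B ∧ ∃ y ∈ P, ∀ u, φ u = ⁅y, ψ u⁆ := by
  obtain ⟨b₀, hb₀, hb1⟩ := hB.exists_ne_one hne
  obtain ⟨v₀, hv₀, hv1⟩ := hB.symm.exists_ne_one hne.symm
  obtain ⟨y, hy, he⟩ := h.exists_cm_eq hB hBP hne hb₀ hb1 hv₀
  have hinj : ∀ b ∈ B, ∀ c ∈ B, ⁅y, b⁆ = ⁅y, c⁆ → b = c := by
    intro b hb c hc hbc
    by_contra hne'
    have h1 := h.cm_mul_right hy (hBP hb) (hBP (B.mul_mem (B.inv_mem hb) hc))
    rw [mul_inv_cancel_left, ← hbc, left_eq_mul, cm_eq_one] at h1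
    exact hv1 (he ▸ cm_eq_one.2 (h.reg hB hBP hne hy (B.mul_mem (B.inv_mem hb) hc)
      (fun h2 => hne' (inv_mul_eq_one.1 h2)) h1 b₀ hb₀))
  let f : B → V := fun b => ⟨⁅y, (b : G)⁆, h.comm y hy _ (hBP b.2)⟩
  have hf : Function.Injective f := fun b c hbc =>
    Subtype.ext (hinj _ b.2 _ c.2 (congrArg Subtype.val hbc))
  have hsurj := (hf.bijective_of_nat_card_le hB.card_eq.ge).2
  choose k hk using fun u => hsurj ⟨φ u, hφ.mem u⟩
  have hk' : ∀ u, φ u = ⁅y, (k u : G)⁆ := fun u => (congrArg Subtype.val (hk u)).symm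
  refine ⟨fun u => k u, ⟨fun u w => ?_, fun u w huw => ?_, fun u => (k u).2, fun b hb => ?_⟩,
    y, hy, hk'⟩
  · refine hinj _ (k _).2 _ (B.mul_mem (k u).2 (k w).2) ?_
    rw [h.cm_mul_right hy (hBP (k u).2) (hBP (k w).2), ← hk', ← hk', ← hk', hφ.add]
  · apply hφ.inj
    rw [hk', hk']
    exact congrArg _ huw
  · obtain ⟨u, hu⟩ := hφ.surj _ (h.comm y hy b (hBP hb))
    exact ⟨u, hinj _ (k u).2 _ hb (by rw [← hk', hu])⟩

/-- Coordinates: `V`, `B` are parametrized by a finite field, `P` and `X` act by all shears. -/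
theorem exists_coord [Finite G] (h : Large V P) {g : G} (hBP : cj g V ≤ P) (hne : cj g V ≠ V) :
    ∃ (F : Type) (_ : Field F) (_ : Fintype F) (φ ψ : F → G), Par φ V ∧ Par ψ (cj g V) ∧
      (∀ y ∈ P, ∃ t : F, ∀ s, ⁅y, ψ s⁆ = φ (t * s)) ∧
      (∀ t : F, ∃ y ∈ P, ∀ s, ⁅y, ψ s⁆ = φ (t * s)) ∧
      (∀ x ∈ cj g P, ∃ t : F, ∀ s, ⁅x, φ s⁆ = ψ (t * s)) ∧
      (∀ t : F, ∃ x ∈ cj g P, ∀ s, ⁅x, φ s⁆ = ψ (t * s)) := by
  have hB : IsCj V (cj g V) := (IsCj.refl V).cj g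
  have hX := h.cj g
  have hVX := h.le_cj hBP hne
  have hsw1 : ∀ n, cj n V = cj g V → cj n P = cj g P := fun n hn => h.cj_eq hn
  have hsw2 : ∀ n, cj n (cj g V) = V → cj n (cj g P) = P := fun n hn => by
    rw [hX.cj_eq (g := g⁻¹) (by rw [hn, cj_inv_cj]), cj_inv_cj]
  set B := cj g V
  set X := cj g P
  let _ : CommGroup V :=
    { (inferInstance : Group V) with
      mul_comm := fun a b => Subtype.ext (comm_of_sq h.sq a a.2 b b.2) }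
  let φ : Additive V → G := fun u => (u.toMul : V)
  have hφ : Par φ V := ⟨fun _ _ => rfl, fun u w huw => Additive.toMul.injective (Subtype.ext huw),
    fun u => u.toMul.2, fun v hv => ⟨Additive.ofMul ⟨v, hv⟩, rfl⟩⟩
  obtain ⟨ψ, hψ, y₀, hy₀, h₀⟩ := exists_par h hB hBP hne hφ
  have hnt : Nontrivial (Additive V) := by
    obtain ⟨v₀, hv₀, hv1⟩ := hB.symm.exists_ne_one hne.symm
    obtain ⟨u, rfl⟩ := hφ.surj v₀ hv₀
    exact ⟨u, 0, fun h0 => hv1 (hφ.eq_one_iff.2 h0)⟩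
  have hnt' : Nontrivial (AddMonoid.End (Additive V)) := by
    obtain ⟨u, hu⟩ := exists_ne (0 : Additive V)
    exact ⟨1, 0, fun h0 => hu (DFunLike.congr_fun h0 u)⟩
  have h1 : (1 : AddMonoid.End (Additive V)) ∈ shears h hBP hφ hψ := ⟨y₀, hy₀, h₀⟩
  obtain ⟨c, ⟨x₀, hx₀, hc⟩, hc1⟩ := exists_left_inv h hX hB hBP hVX hne hφ hψ h1 one_ne_zero
  rw [mul_one] at hc1
  subst hc1
  have h₁ : ∀ u, ψ u = ⁅x₀, φ u⁆ := hc
  have hVB : ∀ u w, ψ u * φ w = φ w * ψ u := fun u w => h.cent _ (hBP (hψ.mem u)) _ (hφ.mem w)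
  have a1 : ∀ u, y₀ * φ u * y₀⁻¹ = φ u := fun u => by
    rw [h.cent _ hy₀ _ (hφ.mem u), mul_inv_cancel_right]
  have a2 : ∀ u, y₀ * ψ u * y₀⁻¹ = φ u * ψ u := fun u => by rw [conj_eq_cm_mul, ← h₀]
  have a3 : ∀ u, x₀ * ψ u * x₀⁻¹ = ψ u := fun u => by
    rw [hX.cent _ hx₀ _ (hψ.mem u), mul_inv_cancel_right]
  have a4 : ∀ u, x₀ * φ u * x₀⁻¹ = ψ u * φ u := fun u => by rw [conj_eq_cm_mul, ← h₁]
  have hn : ∀ u, y₀ * x₀ * y₀ * φ u * (y₀ * x₀ * y₀)⁻¹ = ψ u := fun u => by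
    calc y₀ * x₀ * y₀ * φ u * (y₀ * x₀ * y₀)⁻¹
        = y₀ * (x₀ * (y₀ * φ u * y₀⁻¹) * x₀⁻¹) * y₀⁻¹ := by group
      _ = y₀ * (ψ u * φ u) * y₀⁻¹ := by rw [a1, a4]
      _ = (y₀ * ψ u * y₀⁻¹) * (y₀ * φ u * y₀⁻¹) := by group
      _ = ψ u := by rw [a1, a2, ← hVB, mul_assoc, h.sq _ (hφ.mem u), mul_one]
  have hn' : ∀ u, y₀ * x₀ * y₀ * ψ u * (y₀ * x₀ * y₀)⁻¹ = φ u := fun u => by
    calc y₀ * x₀ * y₀ * ψ u * (y₀ * x₀ * y₀)⁻¹
        = y₀ * (x₀ * (y₀ * ψ u * y₀⁻¹) * x₀⁻¹) * y₀⁻¹ := by group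
      _ = y₀ * ((x₀ * φ u * x₀⁻¹) * (x₀ * ψ u * x₀⁻¹)) * y₀⁻¹ := by rw [a2]; group
      _ = φ u := by rw [a3, a4, hVB, mul_assoc (φ u), hX.sq _ (hψ.mem u), mul_one, a1]
  have hS : shears h hBP hφ hψ = shears hX hVX hψ hφ :=
    le_antisymm (shears_le h hX hBP hVX hφ hψ hn hn' (hsw1 _ (cj_eq_of_par hφ hψ hn)))
      (shears_le hX h hVX hBP hψ hφ hn' hn (hsw2 _ (cj_eq_of_par hψ hφ hn')))
  obtain ⟨F, iF, fF, e, he1, he2⟩ := exists_field_of_inv_closed (U := Additive V)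
    (fun u => by rw [← hφ.eq_one_iff, hφ.add, h.sq _ (hφ.mem u)]) (shears h hBP hφ hψ) h1
    (fun a ha ha0 => by
      obtain ⟨c, hc, hca⟩ := exists_left_inv h hX hB hBP hVX hne hφ hψ ha ha0
      obtain ⟨a', -, ha'⟩ := exists_left_inv hX h hB.symm hVX hBP hne.symm hψ hφ hc
        (left_ne_zero_of_mul_eq_one hca)
      refine ⟨c, hS ▸ hc, ?_, hca⟩
      rw [← one_mul a, ← ha', mul_assoc a', hca, mul_one, ha'])
    (fun u₀ hu₀ u => by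
      obtain ⟨y, hy, he⟩ := h.exists_cm_eq hB hBP hne (hψ.mem u₀)
        (fun h1 => hu₀ (hψ.eq_one_iff.1 h1)) (hφ.mem u)
      obtain ⟨a, ha⟩ := exists_end h hBP hφ hψ hy
      exact ⟨a, ⟨y, hy, ha⟩, hφ.inj (by rw [ha, he])⟩)
  have hpar : ∀ {χ : Additive V → G} {A : Subgroup G}, Par χ A → Par (fun s => χ (e s)) A :=
    fun hχ => ⟨fun s t => by rw [map_add, hχ.add], hχ.inj.comp e.injective, fun s => hχ.mem _,
      fun v hv => by
        obtain ⟨u, rfl⟩ := hχ.surj v hv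
        exact ⟨e.symm u, by simp⟩⟩
  refine ⟨F, iF, fF, fun s => φ (e s), fun s => ψ (e s), hpar hφ, hpar hψ, fun y hy => ?_,
    fun t => ?_, fun x hx => ?_, fun t => ?_⟩
  · obtain ⟨a, ha⟩ := exists_end h hBP hφ hψ hy
    obtain ⟨t, ht⟩ := he1 a ⟨y, hy, ha⟩
    exact ⟨t, fun s => by rw [← ha, ht]⟩
  · obtain ⟨a, ⟨y, hy, ha⟩, ht⟩ := he2 t
    exact ⟨y, hy, fun s => by rw [← ha, ht]⟩
  · obtain ⟨a, ha⟩ := exists_end hX hVX hψ hφ hx
    obtain ⟨t, ht⟩ := he1 a (hS ▸ ⟨x, hx, ha⟩)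
    exact ⟨t, fun s => by rw [← ha, ht]⟩
  · obtain ⟨a, ha, ht⟩ := he2 t
    obtain ⟨x, hx, ha⟩ := hS ▸ ha
    exact ⟨x, hx, fun s => by rw [← ha, ht]⟩

/-- The group `⟨P, P^g⟩` induces `SL(2, |V|)` on `V V^g`. -/
theorem exists_sl2 [Finite G] (h : Large V P) {g : G} (hBP : cj g V ≤ P) (hne : cj g V ≠ V) :
    ∃ (F : Type) (_ : Field F) (_ : Fintype F), Fintype.card F = Nat.card V ∧
      (∃ ρ : ↥(P ⊔ cj g P) →* Matrix.SpecialLinearGroup (Fin 2) F, Function.Surjective ρ ∧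
        ρ.ker = (centralizer ((V ⊔ cj g V : Subgroup G) : Set G)).subgroupOf (P ⊔ cj g P)) ∧
      ∀ v ∈ V, v ≠ 1 → ∀ v' ∈ V, v' ≠ 1 →
        ∃ n ∈ normalizer (V : Set G), n * v * n⁻¹ = v' := by
  classical
  obtain ⟨F, iF, fF, φ, ψ, hφ, hψ, hP1, hP2, hX1, hX2⟩ := exists_coord h hBP hne
  have hB : IsCj V (cj g V) := (IsCj.refl V).cj g
  have hX := h.cj g
  set B := cj g V
  set X := cj g P
  have hVB : ∀ u w, ψ u * φ w = φ w * ψ u := fun u w => h.cent _ (hBP (hψ.mem u)) _ (hφ.mem w)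
  let Φ : (Fin 2 → F) → G := fun z => φ (z 0) * ψ (z 1)
  have hΦ : Function.Injective Φ := fun z z' hz => by
    obtain ⟨h1, h2⟩ := decomp_unique (IsCj.inf_eq_bot h.ti hB (IsCj.refl V) hne) hφ hψ hz
    funext i
    fin_cases i
    exacts [h1, h2]
  let Rep : G → Matrix.SpecialLinearGroup (Fin 2) F → Prop := fun x M =>
    ∀ z, x * Φ z * x⁻¹ = Φ ((M : Matrix (Fin 2) (Fin 2) F).mulVec z)
  have hmul : ∀ x M y N, Rep x M → Rep y N → Rep (x * y) (M * N) := by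
    intro x M y N hx hy z
    rw [Matrix.SpecialLinearGroup.coe_mul, ← Matrix.mulVec_mulVec, ← hx, ← hy]
    group
  have hone : Rep 1 1 := fun z => by simp
  have hinv : ∀ x M, Rep x M → Rep x⁻¹ M⁻¹ := by
    intro x M hx z
    have := hx (((M⁻¹ : Matrix.SpecialLinearGroup (Fin 2) F) : Matrix (Fin 2) (Fin 2) F).mulVec z)
    rw [Matrix.mulVec_mulVec, ← Matrix.SpecialLinearGroup.coe_mul, mul_inv_cancel,
      Matrix.SpecialLinearGroup.coe_one, Matrix.one_mulVec] at this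
    rw [← this]; group
  have huniq : ∀ x M N, Rep x M → Rep x N → M = N := by
    intro x M N hM hN
    apply Subtype.ext
    exact Matrix.ext_iff_mulVec.2 fun z => hΦ ((hM z).symm.trans (hN z))
  have hrepP : ∀ y ∈ P, ∀ t : F, (∀ s, ⁅y, ψ s⁆ = φ (t * s)) →
      Rep y (Matrix.SpecialLinearGroup.transvection (show (0 : Fin 2) ≠ 1 by decide) t) := by
    intro y hy t ht z
    have e : y * Φ z * y⁻¹ = y * φ (z 0) * y⁻¹ * (y * ψ (z 1) * y⁻¹) := by simp only [Φ]; group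
    rw [e, h.cent y hy _ (hφ.mem _), mul_inv_cancel_right, conj_eq_cm_mul, ht, ← mul_assoc,
      ← hφ.add]
    simp [Φ, Matrix.SpecialLinearGroup.transvection, Matrix.transvection]
  have hrepX : ∀ x ∈ X, ∀ t : F, (∀ s, ⁅x, φ s⁆ = ψ (t * s)) →
      Rep x (Matrix.SpecialLinearGroup.transvection (show (1 : Fin 2) ≠ 0 by decide) t) := by
    intro x hx t ht z
    have e : x * Φ z * x⁻¹ = x * φ (z 0) * x⁻¹ * (x * ψ (z 1) * x⁻¹) := by simp only [Φ]; group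
    rw [e, hX.cent x hx _ (hψ.mem _), mul_inv_cancel_right, conj_eq_cm_mul, ht, hVB, mul_assoc,
      ← hψ.add]
    simp [Φ, Matrix.SpecialLinearGroup.transvection, Matrix.transvection]
  let Γ : Subgroup G :=
    { carrier := {x | ∃ M, Rep x M}
      mul_mem' := fun ⟨M, hM⟩ ⟨N, hN⟩ => ⟨M * N, hmul _ _ _ _ hM hN⟩
      one_mem' := ⟨1, hone⟩
      inv_mem' := fun ⟨M, hM⟩ => ⟨M⁻¹, hinv _ _ hM⟩ }
  have hΓ : P ⊔ X ≤ Γ := sup_le
    (fun y hy => by obtain ⟨t, ht⟩ := hP1 y hy; exact ⟨_, hrepP y hy t ht⟩)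
    (fun x hx => by obtain ⟨t, ht⟩ := hX1 x hx; exact ⟨_, hrepX x hx t ht⟩)
  choose f hf using fun x : ↥(P ⊔ X) => hΓ x.2
  let ρ : ↥(P ⊔ X) →* Matrix.SpecialLinearGroup (Fin 2) F := MonoidHom.mk' f fun x y =>
    huniq _ _ _ (hf (x * y)) (hmul _ _ _ _ (hf x) (hf y))
  have hρ : Function.Surjective ρ := by
    rw [← MonoidHom.range_eq_top]
    refine Lin.eq_top_of_transvection_mem fun i j hij t => ?_
    fin_cases i <;> fin_cases j
    · exact absurd rfl hij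
    · obtain ⟨y, hy, ht⟩ := hP2 t
      exact ⟨⟨y, mem_sup_left hy⟩, huniq _ _ _ (hf _) (hrepP y hy t ht)⟩
    · obtain ⟨x, hx, ht⟩ := hX2 t
      exact ⟨⟨x, mem_sup_right hx⟩, huniq _ _ _ (hf _) (hrepX x hx t ht)⟩
    · exact absurd rfl hij
  refine ⟨F, iF, fF, ?_, ⟨ρ, hρ, ?_⟩, ?_⟩
  · rw [← Nat.card_eq_fintype_card]
    exact Nat.card_congr (Equiv.ofBijective (fun s => (⟨φ s, hφ.mem s⟩ : V))
      ⟨fun s t hst => hφ.inj (congrArg Subtype.val hst), fun v => by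
        obtain ⟨s, hs⟩ := hφ.surj v v.2
        exact ⟨s, Subtype.ext hs⟩⟩)
  · ext x
    rw [MonoidHom.mem_ker, mem_subgroupOf, mem_centralizer_iff]
    constructor
    · intro hx w hw
      obtain ⟨v, hv, b, hb, rfl⟩ := (h.mem_sup_iff hBP).1 hw
      obtain ⟨s, rfl⟩ := hφ.surj v hv
      obtain ⟨t, rfl⟩ := hψ.surj b hb
      have := hf x ![s, t]
      rw [show f x = 1 from hx, Matrix.SpecialLinearGroup.coe_one, Matrix.one_mulVec] at this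
      exact (mul_inv_eq_iff_eq_mul.1 this).symm
    · intro hx
      refine huniq _ _ _ (hf x) fun z => ?_
      rw [Matrix.SpecialLinearGroup.coe_one, Matrix.one_mulVec,
        ← hx (Φ z) (mul_mem_sup (hφ.mem _) (hψ.mem _)), mul_inv_cancel_right]
  · intro v hv hv1 v' hv' hv1'
    obtain ⟨s, rfl⟩ := hφ.surj v hv
    obtain ⟨t, rfl⟩ := hφ.surj v' hv'
    have hs : s ≠ 0 := fun h0 => hv1 (hφ.eq_one_iff.2 h0)
    have ht : t ≠ 0 := fun h0 => hv1' (hφ.eq_one_iff.2 h0)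
    obtain ⟨n, hn⟩ := hρ ⟨!![t / s, 0; 0, s / t], by
      rw [Matrix.det_fin_two_of]; field_simp; ring⟩
    have key : ∀ u, (n : G) * φ u * (n : G)⁻¹ = φ (t / s * u) := fun u => by
      have := hf n ![u, 0]
      rw [show f n = _ from hn] at this
      rw [mul_comm (t / s)]
      simpa [Φ, hψ.zero, Matrix.mulVec, dotProduct, Fin.sum_univ_two] using this
    refine ⟨n, mem_normalizer_of_conj_mem fun a ha => ?_, by rw [key, div_mul_cancel₀ _ hs]⟩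
    obtain ⟨u, rfl⟩ := hφ.surj a ha
    rw [key]; exact hφ.mem _

end CL.TI
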